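import Mathlib

/-!
# S2465, `All 6` for `PSp_4(3)`, `PSp_4(4)`, `PSp_4(9)`: computation with `4 × 4` matrices

* elements of the field are coded by natural numbers `x + 4 y ↔ x + y θ`, `θ ^ 2 = s θ + t` (`cod`);
* `Mt` : matrices of codes;
* `sI`, `eI` : the invariants of an isometry `Y` of the form `J4 = diag(J, J)`; `Y + Y⁻¹` is a root of `x² - sI x + eI`;
* `pow_eq_one` : `Y ^ n = 1` if the characteristic polynomial divides `x ^ n - 1`.
-/

set_option autoImplicit false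

namespace Cfsg.Agent.H474.Pw

open Matrix

/-! ### Scalars -/

section Scalars

variable {F : Type*} [Field F]

/-- the element with code `n` -/
def cod (θ : F) (n : ℕ) : F := ((n % 4 : ℕ) : F) + ((n / 4 : ℕ) : F) * θ

/-- addition of codes -/
def ca (p a b : ℕ) : ℕ := (a % 4 + b % 4) % p + 4 * ((a / 4 + b / 4) % p)

/-- multiplication of codes -/
def cm (p s t a b : ℕ) : ℕ :=
  ((a % 4) * (b % 4) + t * ((a / 4) * (b / 4))) % p +
    4 * (((a % 4) * (b / 4) + (a / 4) * (b % 4) + s * ((a / 4) * (b / 4))) % p)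

/-- negatives of codes -/
def cn (p a : ℕ) : ℕ := ((p - 1) * (a % 4)) % p + 4 * (((p - 1) * (a / 4)) % p)

/-- the hypotheses on the code -/
structure Cd (p s t : ℕ) (θ : F) : Prop where
  hp : (p : F) = 0
  h0 : 0 < p
  h4 : p ≤ 4
  hθ : θ ^ 2 = s * θ + t

variable {p s t : ℕ} {θ : F}

theorem Cd.cast_mod (h : Cd p s t θ) (n : ℕ) : ((n % p : ℕ) : F) = n := by
  conv_rhs => rw [← Nat.mod_add_div n p]
  push_cast
  rw [h.hp, zero_mul, add_zero]

theorem Cd.cod_mk (h : Cd p s t θ) (u v : ℕ) : cod θ (u % p + 4 * (v % p)) = (u : F) + v * θ := by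
  have h1 := Nat.mod_lt u h.h0
  have h2 := h.h4
  have e1 : (u % p + 4 * (v % p)) % 4 = u % p := by omega
  have e2 : (u % p + 4 * (v % p)) / 4 = v % p := by omega
  rw [cod, e1, e2, h.cast_mod, h.cast_mod]

theorem Cd.ca (h : Cd p s t θ) (a b : ℕ) : cod θ (ca p a b) = cod θ a + cod θ b := by
  rw [Pw.ca, h.cod_mk, cod, cod]
  push_cast
  ring

theorem Cd.cm (h : Cd p s t θ) (a b : ℕ) : cod θ (cm p s t a b) = cod θ a * cod θ b := by
  rw [Pw.cm, h.cod_mk, cod, cod]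
  have := h.hθ
  push_cast
  linear_combination (-(((a / 4 : ℕ) : F) * ((b / 4 : ℕ) : F))) * this

theorem Cd.cn (h : Cd p s t θ) (a : ℕ) : cod θ (cn p a) = - cod θ a := by
  rw [Pw.cn, h.cod_mk, cod]
  have h1 : ((p - 1 : ℕ) : F) = -1 := by
    rw [Nat.cast_sub h.h0, h.hp, Nat.cast_one, zero_sub]
  push_cast
  rw [h1]
  ring

theorem cod_zero (θ : F) : cod θ 0 = 0 := by simp [cod]

theorem cod_one (θ : F) : cod θ 1 = 1 := by simp [cod]

end Scalars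

/-! ### Matrices -/

/-- the form -/
def J4 (F : Type*) [Field F] : Matrix (Fin 4) (Fin 4) F :=
  !![0, 1, 0, 0; -1, 0, 0, 0; 0, 0, 0, 1; 0, 0, -1, 0]

section Mat

variable {F : Type*} [Field F]

/-- the bilinear form on coordinate vectors -/
def Bv (x y : Fin 4 → F) : F := x 0 * y 1 - x 1 * y 0 + (x 2 * y 3 - x 3 * y 2)

/-- isometries of `J4` -/
def SpE (Y : Matrix (Fin 4) (Fin 4) F) : Prop := ∀ i j, Bv (fun k => Y k i) (fun k => Y k j) = J4 F i j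

theorem spE_of {Y : Matrix (Fin 4) (Fin 4) F}
    (h01 : Bv (fun k => Y k 0) (fun k => Y k 1) = 1) (h02 : Bv (fun k => Y k 0) (fun k => Y k 2) = 0)
    (h03 : Bv (fun k => Y k 0) (fun k => Y k 3) = 0) (h12 : Bv (fun k => Y k 1) (fun k => Y k 2) = 0)
    (h13 : Bv (fun k => Y k 1) (fun k => Y k 3) = 0) (h23 : Bv (fun k => Y k 2) (fun k => Y k 3) = 1) :
    SpE Y := by
  unfold Bv at h01 h02 h03 h12 h13 h23
  intro i j
  unfold Bv
  fin_cases i <;> fin_cases j <;> simp [J4]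
  · ring
  · linear_combination h01
  · linear_combination h02
  · linear_combination h03
  · linear_combination -h01
  · ring
  · linear_combination h12
  · linear_combination h13
  · linear_combination -h02
  · linear_combination -h12
  · ring
  · linear_combination h23
  · linear_combination -h03
  · linear_combination -h13
  · linear_combination -h23
  · ring

/-- the first invariant -/
def sI (Y : Matrix (Fin 4) (Fin 4) F) : F := Y 0 0 + Y 1 1 + (Y 2 2 + Y 3 3)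

/-- the second invariant -/
def eI (Y : Matrix (Fin 4) (Fin 4) F) : F :=
  (Y 0 0 + Y 1 1) * (Y 2 2 + Y 3 3) - ((Y 0 2 + Y 3 1) * (Y 1 3 + Y 2 0) - (Y 0 3 - Y 2 1) * (Y 1 2 - Y 3 0))

/-- the adjoint -/
def adjJ (Y : Matrix (Fin 4) (Fin 4) F) : Matrix (Fin 4) (Fin 4) F :=
  !![Y 1 1, -Y 0 1, Y 3 1, -Y 2 1; -Y 1 0, Y 0 0, -Y 3 0, Y 2 0; Y 1 3, -Y 0 3, Y 3 3, -Y 2 3;
    -Y 1 2, Y 0 2, -Y 3 2, Y 2 2]

theorem adjJ_mul {Y : Matrix (Fin 4) (Fin 4) F} (h : SpE Y) : adjJ Y * Y = 1 := by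
  ext i j
  have h0 := h 0 j
  have h1 := h 1 j
  have h2 := h 2 j
  have h3 := h 3 j
  unfold Bv at h0 h1 h2 h3
  fin_cases i <;> fin_cases j <;>
    simp [adjJ, J4, Matrix.mul_apply, Fin.sum_univ_four] at h0 h1 h2 h3 ⊢ <;>
    first
      | linear_combination -h1
      | linear_combination h0
      | linear_combination -h3
      | linear_combination h2

theorem mul_adjJ {Y : Matrix (Fin 4) (Fin 4) F} (h : SpE Y) : Y * adjJ Y = 1 :=
  mul_eq_one_comm.1 (adjJ_mul h)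

theorem quad (Y : Matrix (Fin 4) (Fin 4) F) :
    (Y + adjJ Y) * (Y + adjJ Y) = sI Y • (Y + adjJ Y) - eI Y • (1 : Matrix (Fin 4) (Fin 4) F) := by
  ext i j
  fin_cases i <;> fin_cases j <;>
    simp [adjJ, sI, eI, Matrix.mul_apply, Fin.sum_univ_four] <;> ring

/-- the characteristic polynomial -/
theorem cayley {Y : Matrix (Fin 4) (Fin 4) F} (h : SpE Y) :
    Y ^ 4 + (-sI Y) • Y ^ 3 + (eI Y + 2) • Y ^ 2 + (-sI Y) • Y + 1 = 0 := by
  have h1 := adjJ_mul h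
  have h2 := mul_adjJ h
  have h3 := quad Y
  have h4 : Y ^ 2 * ((Y + adjJ Y) * (Y + adjJ Y)) = Y ^ 4 + 2 • Y ^ 2 + 1 := by
    have e1 : Y * (Y + adjJ Y) = Y ^ 2 + 1 := by rw [mul_add, h2, pow_two]
    have e2 : Y * adjJ Y * adjJ Y = adjJ Y := by rw [h2, one_mul]
    calc Y ^ 2 * ((Y + adjJ Y) * (Y + adjJ Y)) = Y * (Y * (Y + adjJ Y)) * (Y + adjJ Y) := by noncomm_ring
      _ = Y * (Y ^ 2 + 1) * (Y + adjJ Y) := by rw [e1]
      _ = (Y ^ 2 + 1) * (Y * (Y + adjJ Y)) := by noncomm_ring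
      _ = (Y ^ 2 + 1) * (Y ^ 2 + 1) := by rw [e1]
      _ = _ := by noncomm_ring
  have h5 : Y ^ 2 * (sI Y • (Y + adjJ Y) - eI Y • (1 : Matrix (Fin 4) (Fin 4) F)) =
      sI Y • Y ^ 3 + sI Y • Y - eI Y • Y ^ 2 := by
    rw [mul_sub, mul_smul_comm, mul_smul_comm, mul_one, mul_add, smul_add]
    have e3 : Y ^ 2 * adjJ Y = Y := by rw [pow_two, mul_assoc, h2, mul_one]
    rw [e3, ← pow_succ]
  rw [h3, h5] at h4
  have h6 : (2 : F) • Y ^ 2 = 2 • Y ^ 2 := by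
    rw [two_smul, two_smul]
  rw [add_smul, neg_smul, neg_smul, h6]
  have h7 : Y ^ 4 + 2 • Y ^ 2 + 1 - (sI Y • Y ^ 3 + sI Y • Y - eI Y • Y ^ 2) = 0 := by rw [h4, sub_self]
  rw [← h7]
  abel

theorem SpE.neg {Y : Matrix (Fin 4) (Fin 4) F} (h : SpE Y) : SpE (-Y) := by
  intro i j
  rw [← h i j]
  simp only [Bv, Matrix.neg_apply]
  ring

theorem sI_neg (Y : Matrix (Fin 4) (Fin 4) F) : sI (-Y) = - sI Y := by
  simp only [sI, Matrix.neg_apply]
  ring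

theorem eI_neg (Y : Matrix (Fin 4) (Fin 4) F) : eI (-Y) = eI Y := by
  simp only [eI, Matrix.neg_apply]
  ring

theorem SpE.mul {X Y : Matrix (Fin 4) (Fin 4) F} (hX : SpE X) (hY : SpE Y) : SpE (X * Y) := by
  intro i j
  rw [← hY i j]
  have e : ∀ a : Fin 4, (fun k => (X * Y) k a) = fun k => ∑ l, X k l * Y l a := fun a => rfl
  have h := fun a b => hX a b
  have h01 := hX 0 1
  have h02 := hX 0 2
  have h03 := hX 0 3
  have h12 := hX 1 2
  have h13 := hX 1 3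
  have h23 := hX 2 3
  rw [e, e]
  unfold Bv at h01 h02 h03 h12 h13 h23 ⊢
  simp only [Fin.sum_univ_four]
  simp [J4] at h01 h02 h03 h12 h13 h23
  linear_combination (Y 0 i * Y 1 j - Y 1 i * Y 0 j) * h01 + (Y 0 i * Y 2 j - Y 2 i * Y 0 j) * h02 +
    (Y 0 i * Y 3 j - Y 3 i * Y 0 j) * h03 + (Y 1 i * Y 2 j - Y 2 i * Y 1 j) * h12 +
    (Y 1 i * Y 3 j - Y 3 i * Y 1 j) * h13 + (Y 2 i * Y 3 j - Y 3 i * Y 2 j) * h23

end Mat

/-- matrices of codes -/
structure Mt where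
  /-- entry -/
  a00 : ℕ
  /-- entry -/
  a01 : ℕ
  /-- entry -/
  a02 : ℕ
  /-- entry -/
  a03 : ℕ
  /-- entry -/
  a10 : ℕ
  /-- entry -/
  a11 : ℕ
  /-- entry -/
  a12 : ℕ
  /-- entry -/
  a13 : ℕ
  /-- entry -/
  a20 : ℕ
  /-- entry -/
  a21 : ℕ
  /-- entry -/
  a22 : ℕ
  /-- entry -/
  a23 : ℕ
  /-- entry -/
  a30 : ℕ
  /-- entry -/
  a31 : ℕ
  /-- entry -/
  a32 : ℕ
  /-- entry -/
  a33 : ℕ

section Codes

variable {F : Type*} [Field F] {p s t : ℕ} {θ : F}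

/-- the matrix with the given codes -/
def Mt.toM (θ : F) (A : Mt) : Matrix (Fin 4) (Fin 4) F :=
  !![cod θ A.a00, cod θ A.a01, cod θ A.a02, cod θ A.a03; cod θ A.a10, cod θ A.a11, cod θ A.a12, cod θ A.a13;
    cod θ A.a20, cod θ A.a21, cod θ A.a22, cod θ A.a23; cod θ A.a30, cod θ A.a31, cod θ A.a32, cod θ A.a33]

/-- scalar product of codes -/
def dot (p s t w0 w1 w2 w3 m0 m1 m2 m3 : ℕ) : ℕ :=
  ca p (ca p (cm p s t w0 m0) (cm p s t w1 m1)) (ca p (cm p s t w2 m2) (cm p s t w3 m3))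

/-- product of matrices of codes -/
def Mt.mul (p s t : ℕ) (W M : Mt) : Mt where
  a00 := dot p s t W.a00 W.a01 W.a02 W.a03 M.a00 M.a10 M.a20 M.a30
  a01 := dot p s t W.a00 W.a01 W.a02 W.a03 M.a01 M.a11 M.a21 M.a31
  a02 := dot p s t W.a00 W.a01 W.a02 W.a03 M.a02 M.a12 M.a22 M.a32
  a03 := dot p s t W.a00 W.a01 W.a02 W.a03 M.a03 M.a13 M.a23 M.a33
  a10 := dot p s t W.a10 W.a11 W.a12 W.a13 M.a00 M.a10 M.a20 M.a30
  a11 := dot p s t W.a10 W.a11 W.a12 W.a13 M.a01 M.a11 M.a21 M.a31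
  a12 := dot p s t W.a10 W.a11 W.a12 W.a13 M.a02 M.a12 M.a22 M.a32
  a13 := dot p s t W.a10 W.a11 W.a12 W.a13 M.a03 M.a13 M.a23 M.a33
  a20 := dot p s t W.a20 W.a21 W.a22 W.a23 M.a00 M.a10 M.a20 M.a30
  a21 := dot p s t W.a20 W.a21 W.a22 W.a23 M.a01 M.a11 M.a21 M.a31
  a22 := dot p s t W.a20 W.a21 W.a22 W.a23 M.a02 M.a12 M.a22 M.a32
  a23 := dot p s t W.a20 W.a21 W.a22 W.a23 M.a03 M.a13 M.a23 M.a33
  a30 := dot p s t W.a30 W.a31 W.a32 W.a33 M.a00 M.a10 M.a20 M.a30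
  a31 := dot p s t W.a30 W.a31 W.a32 W.a33 M.a01 M.a11 M.a21 M.a31
  a32 := dot p s t W.a30 W.a31 W.a32 W.a33 M.a02 M.a12 M.a22 M.a32
  a33 := dot p s t W.a30 W.a31 W.a32 W.a33 M.a03 M.a13 M.a23 M.a33

theorem Cd.dot (h : Cd p s t θ) (w0 w1 w2 w3 m0 m1 m2 m3 : ℕ) :
    cod θ (dot p s t w0 w1 w2 w3 m0 m1 m2 m3) = cod θ w0 * cod θ m0 + cod θ w1 * cod θ m1 + cod θ w2 * cod θ m2 +
      cod θ w3 * cod θ m3 := by
  rw [Pw.dot, h.ca, h.ca, h.ca, h.cm, h.cm, h.cm, h.cm]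
  ring

theorem Cd.toM_mul (h : Cd p s t θ) (W M : Mt) : (Mt.mul p s t W M).toM θ = W.toM θ * M.toM θ := by
  ext i j
  fin_cases i <;> fin_cases j <;>
    simp [Mt.toM, Mt.mul, h.dot, Matrix.mul_apply, Fin.sum_univ_four]

/-- the first invariant, codes -/
def csI (p : ℕ) (Y : Mt) : ℕ := ca p (ca p Y.a00 Y.a11) (ca p Y.a22 Y.a33)

/-- the second invariant, codes -/
def ceI (p s t : ℕ) (Y : Mt) : ℕ :=
  ca p (cm p s t (ca p Y.a00 Y.a11) (ca p Y.a22 Y.a33))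
    (ca p (cn p (cm p s t (ca p Y.a02 Y.a31) (ca p Y.a13 Y.a20)))
      (cm p s t (ca p Y.a03 (cn p Y.a21)) (ca p Y.a12 (cn p Y.a30))))

theorem Cd.csI (h : Cd p s t θ) (Y : Mt) : cod θ (csI p Y) = sI (Y.toM θ) := by
  simp [Pw.csI, sI, Mt.toM, h.ca]

theorem Cd.ceI (h : Cd p s t θ) (Y : Mt) : cod θ (ceI p s t Y) = eI (Y.toM θ) := by
  simp [Pw.ceI, eI, Mt.toM, h.ca, h.cm, h.cn]
  ring

/-- the form on codes -/
def cB (p s t x0 x1 x2 x3 y0 y1 y2 y3 : ℕ) : ℕ :=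
  ca p (ca p (cm p s t x0 y1) (cn p (cm p s t x1 y0))) (ca p (cm p s t x2 y3) (cn p (cm p s t x3 y2)))

/-- the matrix is an isometry -/
def cSp (p s t : ℕ) (A : Mt) : Bool :=
  Nat.beq (cB p s t A.a00 A.a10 A.a20 A.a30 A.a01 A.a11 A.a21 A.a31) 1 &&
  Nat.beq (cB p s t A.a00 A.a10 A.a20 A.a30 A.a02 A.a12 A.a22 A.a32) 0 &&
  Nat.beq (cB p s t A.a00 A.a10 A.a20 A.a30 A.a03 A.a13 A.a23 A.a33) 0 &&
  Nat.beq (cB p s t A.a01 A.a11 A.a21 A.a31 A.a02 A.a12 A.a22 A.a32) 0 &&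
  Nat.beq (cB p s t A.a01 A.a11 A.a21 A.a31 A.a03 A.a13 A.a23 A.a33) 0 &&
  Nat.beq (cB p s t A.a02 A.a12 A.a22 A.a32 A.a03 A.a13 A.a23 A.a33) 1

theorem Cd.cB (h : Cd p s t θ) (x0 x1 x2 x3 y0 y1 y2 y3 : ℕ) :
    cod θ (cB p s t x0 x1 x2 x3 y0 y1 y2 y3) = cod θ x0 * cod θ y1 - cod θ x1 * cod θ y0 +
      (cod θ x2 * cod θ y3 - cod θ x3 * cod θ y2) := by
  rw [Pw.cB, h.ca, h.ca, h.ca, h.cn, h.cn, h.cm, h.cm, h.cm, h.cm]
  ring

theorem Cd.cSp (h : Cd p s t θ) {A : Mt} (hA : cSp p s t A = true) : SpE (A.toM θ) := by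
  unfold Pw.cSp at hA
  simp only [Bool.and_eq_true] at hA
  obtain ⟨⟨⟨⟨⟨h01, h02⟩, h03⟩, h12⟩, h13⟩, h23⟩ := hA
  have key : ∀ {a b : ℕ}, Nat.beq a b = true → cod θ a = cod θ b := fun hab => by
    rw [Nat.eq_of_beq_eq_true hab]
  refine spE_of ?_ ?_ ?_ ?_ ?_ ?_
  · have e := key h01
    rw [h.cB, cod_one] at e
    simpa [Bv, Mt.toM] using e
  · have e := key h02
    rw [h.cB, cod_zero] at e
    simpa [Bv, Mt.toM] using e
  · have e := key h03
    rw [h.cB, cod_zero] at e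
    simpa [Bv, Mt.toM] using e
  · have e := key h12
    rw [h.cB, cod_zero] at e
    simpa [Bv, Mt.toM] using e
  · have e := key h13
    rw [h.cB, cod_zero] at e
    simpa [Bv, Mt.toM] using e
  · have e := key h23
    rw [h.cB, cod_one] at e
    simpa [Bv, Mt.toM] using e

/-! ### Polynomials -/

/-- value of the polynomial with the given coefficients (codes) -/
def ev {R : Type*} [Ring R] [Algebra F R] (θ : F) (Y : R) : List ℕ → R
  | [] => 0
  | c :: l => algebraMap F R (cod θ c) + Y * ev θ Y l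

/-- sum of polynomials -/
def addL (p : ℕ) : List ℕ → List ℕ → List ℕ
  | [], l => l
  | a :: l, [] => a :: l
  | a :: l, b :: m => ca p a b :: addL p l m

/-- scalar multiple -/
def scL (p s t c : ℕ) (l : List ℕ) : List ℕ := l.map (cm p s t c)

variable {R : Type*} [Ring R] [Algebra F R]

theorem Cd.ev_addL (h : Cd p s t θ) (Y : R) (l m : List ℕ) : ev θ Y (addL p l m) = ev θ Y l + ev θ Y m := by
  induction l generalizing m with
  | nil => simp [addL, ev]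
  | cons a l ih =>
    cases m with
    | nil => simp [addL, ev]
    | cons b m =>
      simp only [addL, ev, ih, h.ca, map_add, mul_add]
      abel

theorem Cd.ev_scL (h : Cd p s t θ) (Y : R) (c : ℕ) (l : List ℕ) :
    ev θ Y (scL p s t c l) = algebraMap F R (cod θ c) * ev θ Y l := by
  induction l with
  | nil => simp [scL, ev]
  | cons a l ih =>
    have ih' : ev θ Y (l.map (Pw.cm p s t c)) = algebraMap F R (cod θ c) * ev θ Y l := ih
    simp only [scL, List.map_cons, ev, ih', h.cm, map_mul, mul_add]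
    rw [← mul_assoc, ← mul_assoc, Algebra.commutes (cod θ c) Y]

theorem ev_cons_zero (Y : R) (l : List ℕ) : ev θ Y (0 :: l) = Y * ev θ Y l := by
  rw [ev, cod_zero, map_zero, zero_add]

theorem ev_rep (Y : R) (k : ℕ) : ev θ Y (List.replicate k 0 ++ [1]) = Y ^ k := by
  induction k with
  | zero => simp [ev, cod_one]
  | succ k ih => rw [List.replicate_succ, List.cons_append, ev_cons_zero, ih, pow_succ']

/-- multiplication by `1 - σ x + (ε + 2) x² - σ x³ + x⁴` -/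
def mulf (p s t σ ε : ℕ) (l : List ℕ) : List ℕ :=
  addL p l (addL p (0 :: scL p s t (cn p σ) l) (addL p (0 :: 0 :: scL p s t (ca p ε (ca p 1 1)) l)
    (addL p (0 :: 0 :: 0 :: scL p s t (cn p σ) l) (0 :: 0 :: 0 :: 0 :: l))))

/-- the polynomial `x ^ (k + 1) - 1` -/
def xn (p k : ℕ) : List ℕ := cn p 1 :: (List.replicate k 0 ++ [1])

theorem Cd.pow_eq_one (h : Cd p s t θ) {Y : Matrix (Fin 4) (Fin 4) F} (hY : SpE Y) {σ ε k : ℕ} {l : List ℕ}
    (hσ : cod θ σ = sI Y) (hε : cod θ ε = eI Y) (hl : mulf p s t σ ε l = xn p k) : Y ^ (k + 1) = 1 := by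
  have h1 := congrArg (ev θ Y) hl
  have h2 : ev θ Y (xn p k) = Y ^ (k + 1) - 1 := by
    rw [xn, ev, h.cn, cod_one, map_neg, map_one, ev_rep, pow_succ']
    abel
  have h3 : ev θ Y (mulf p s t σ ε l) =
      (Y ^ 4 + (-sI Y) • Y ^ 3 + (eI Y + 2) • Y ^ 2 + (-sI Y) • Y + 1) * ev θ Y l := by
    unfold mulf
    rw [h.ev_addL, h.ev_addL, h.ev_addL, h.ev_addL]
    simp only [ev_cons_zero, h.ev_scL, h.cn, h.ca, cod_one, hσ, hε]
    have e2 : (eI Y + (1 + 1) : F) = eI Y + 2 := by ring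
    rw [e2]
    simp only [Algebra.algebraMap_eq_smul_one, smul_mul_assoc, one_mul, mul_smul_comm, add_mul, mul_assoc, pow_succ,
      pow_zero]
    abel
  rw [h3, cayley hY, zero_mul, h2] at h1
  exact (sub_eq_zero.1 h1.symm)

/-! ### The check -/

/-- data: codes `σ`, `ε` of the invariants, exponent `k + 1`, cofactor -/
def chkG (p s t N : ℕ) (G : List (ℕ × ℕ × ℕ × List ℕ)) : Bool :=
  G.all fun g => decide (mulf p s t g.1 g.2.1 g.2.2.2 = xn p g.2.2.1) && decide (N % (g.2.2.1 + 1) = 0)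

/-- the pair of invariants is in the list -/
def okI (G : List (ℕ × ℕ)) (σ ε : ℕ) : Bool := G.any fun g => Nat.beq g.1 σ && Nat.beq g.2 ε

/-- the projection of the data -/
def prj (G : List (ℕ × ℕ × ℕ × List ℕ)) : List (ℕ × ℕ) := G.map fun g => (g.1, g.2.1)

theorem Cd.pow_eq_one' (h : Cd p s t θ) {N : ℕ} {G : List (ℕ × ℕ × ℕ × List ℕ)} (hG : chkG p s t N G = true)
    {Y : Matrix (Fin 4) (Fin 4) F} (hY : SpE Y) {σ ε : ℕ} (hσ : cod θ σ = sI Y) (hε : cod θ ε = eI Y)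
    (hok : okI (prj G) σ ε = true) : Y ^ N = 1 := by
  unfold okI at hok
  rw [List.any_eq_true] at hok
  obtain ⟨g, hg, h1⟩ := hok
  rw [prj, List.mem_map] at hg
  obtain ⟨g, hg, rfl⟩ := hg
  rw [Bool.and_eq_true] at h1
  have e1 : g.1 = σ := Nat.eq_of_beq_eq_true h1.1
  have e2 : g.2.1 = ε := Nat.eq_of_beq_eq_true h1.2
  unfold chkG at hG
  rw [List.all_eq_true] at hG
  have h2 := hG g hg
  rw [Bool.and_eq_true, decide_eq_true_eq, decide_eq_true_eq, e1, e2] at h2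
  have h3 := h.pow_eq_one hY hσ hε h2.1
  obtain ⟨m, hm⟩ := Nat.dvd_of_mod_eq_zero h2.2
  rw [hm, pow_mul, h3, one_pow]

/-- the test of one pair -/
def okM (p s t : ℕ) (G : List (ℕ × ℕ)) (M W : Mt) : Bool :=
  let Y := Mt.mul p s t W M
  okI G (csI p Y) (ceI p s t Y) || okI G (cn p (csI p Y)) (ceI p s t Y)

/-- a matrix is good -/
def GoodM (N : ℕ) (M : Matrix (Fin 4) (Fin 4) F) : Prop :=
  ∃ W : Matrix (Fin 4) (Fin 4) F, SpE W ∧ W ^ N = 1 ∧ ((W * M) ^ N = 1 ∨ (-(W * M)) ^ N = 1)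

/-- the list of matrices `W` is correct -/
def chkW (p s t : ℕ) (G : List (ℕ × ℕ)) (Ws : List Mt) : Bool :=
  Ws.all fun W => cSp p s t W && okI G (csI p W) (ceI p s t W)

theorem Cd.good (h : Cd p s t θ) {N : ℕ} {G : List (ℕ × ℕ × ℕ × List ℕ)} (hG : chkG p s t N G = true)
    {Ws : List Mt} (hW : chkW p s t (prj G) Ws = true) {M : Mt} (hM : SpE (M.toM θ))
    (hok : (Ws.any (okM p s t (prj G) M)) = true) : GoodM N (M.toM θ) := by
  rw [List.any_eq_true] at hok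
  obtain ⟨W, hWm, h1⟩ := hok
  unfold chkW at hW
  rw [List.all_eq_true] at hW
  have h2 := hW W hWm
  rw [Bool.and_eq_true] at h2
  have hWs := h.cSp h2.1
  have hWN := h.pow_eq_one' hG hWs (h.csI W) (h.ceI W) h2.2
  refine ⟨W.toM θ, hWs, hWN, ?_⟩
  have hY : SpE (W.toM θ * M.toM θ) := hWs.mul hM
  unfold okM at h1
  rw [Bool.or_eq_true] at h1
  rcases h1 with h1 | h1
  · left
    exact h.pow_eq_one' hG hY (by rw [h.csI, h.toM_mul]) (by rw [h.ceI, h.toM_mul]) h1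
  · right
    exact h.pow_eq_one' hG hY.neg (by rw [h.cn, h.csI, h.toM_mul, sI_neg]) (by rw [h.ceI, h.toM_mul, eI_neg]) h1

end Codes

end Cfsg.Agent.H474.Pw
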