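import Cfsg.Agent.H474.Pw.Check
import Cfsg.Agent.ChevalleyStructure.NineField

/-!
# `All 6` for `PSp_4(9)` (S2465)
-/

set_option autoImplicit false

namespace Cfsg.Agent.H474.Pw

/-- characteristic polynomials -/
def G9 : List (ℕ × ℕ × ℕ × List ℕ) :=
  [(9, 10, 40, [2, 6, 5, 9, 2, 10, 9, 0, 10, 10, 6, 8, 5, 5, 4, 9, 8, 6, 1, 2, 9, 4, 6, 8, 10, 10, 4, 9, 5, 5, 0, 6, 5, 1, 6, 10, 9, 1]),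
  (8, 8, 40, [2, 4, 8, 9, 6, 2, 4, 4, 5, 2, 9, 10, 4, 1, 8, 10, 4, 6, 6, 9, 9, 8, 5, 4, 2, 8, 5, 6, 1, 10, 8, 8, 1, 9, 6, 4, 8, 1]),
  (1, 4, 40, [2, 2, 5, 10, 9, 1, 10, 6, 8, 1, 4, 6, 1, 0, 8, 6, 0, 4, 2, 1, 8, 0, 9, 4, 0, 2, 9, 8, 2, 4, 9, 5, 2, 6, 5, 10, 1, 1]),
  (5, 6, 40, [2, 10, 9, 5, 2, 6, 5, 0, 6, 6, 10, 4, 9, 9, 8, 5, 4, 10, 1, 2, 5, 8, 10, 4, 6, 6, 8, 5, 9, 9, 0, 10, 9, 1, 10, 6, 5, 1]),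
  (4, 5, 40, [2, 8, 5, 1, 0, 6, 9, 9, 10, 6, 9, 10, 4, 4, 0, 5, 1, 9, 4, 8, 6, 2, 10, 0, 8, 8, 5, 6, 9, 5, 6, 6, 9, 0, 2, 10, 4, 1]),
  (2, 2, 4, [2, 1]),
  (8, 9, 40, [2, 4, 9, 1, 0, 10, 5, 5, 6, 10, 5, 6, 8, 8, 0, 9, 1, 5, 8, 4, 10, 2, 6, 0, 4, 4, 9, 10, 5, 9, 10, 10, 5, 0, 2, 6, 8, 1]),
  (10, 1, 40, [2, 5, 4, 2, 10, 0, 1, 4, 2, 0, 8, 4, 10, 2, 6, 6, 9, 1, 6, 9, 2, 6, 9, 9, 1, 5, 8, 4, 0, 1, 8, 2, 0, 5, 1, 8, 10, 1]),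
  (4, 4, 40, [2, 8, 4, 5, 10, 2, 8, 8, 9, 2, 5, 6, 8, 1, 4, 6, 8, 10, 10, 5, 5, 4, 9, 8, 2, 4, 9, 10, 1, 6, 4, 4, 1, 5, 10, 8, 4, 1]),
  (1, 8, 40, [2, 2, 9, 6, 5, 1, 6, 10, 4, 1, 8, 10, 1, 0, 4, 10, 0, 8, 2, 1, 4, 0, 5, 8, 0, 2, 5, 4, 2, 8, 5, 9, 2, 10, 9, 6, 1, 1]),
  (6, 1, 40, [2, 9, 8, 2, 6, 0, 1, 8, 2, 0, 4, 8, 6, 2, 10, 10, 5, 1, 10, 5, 2, 10, 5, 5, 1, 9, 4, 8, 0, 1, 4, 2, 0, 9, 1, 4, 6, 1])]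

/-- the matrices `W` -/
def W9 : List Mt :=
  [⟨5, 1, 6, 2, 8, 10, 0, 8, 2, 6, 0, 5, 10, 8, 10, 1⟩,
  ⟨8, 6, 2, 10, 4, 4, 9, 4, 5, 10, 1, 10, 9, 5, 2, 8⟩,
  ⟨1, 0, 10, 6, 8, 8, 0, 2, 5, 5, 0, 1, 0, 1, 4, 4⟩,
  ⟨6, 6, 6, 6, 10, 4, 4, 0, 10, 4, 9, 0, 1, 4, 9, 6⟩,
  ⟨4, 5, 8, 6, 8, 9, 5, 10, 4, 0, 10, 6, 4, 9, 9, 5⟩,
  ⟨1, 9, 6, 2, 2, 8, 2, 2, 5, 9, 10, 4, 10, 8, 4, 5⟩,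
  ⟨5, 4, 4, 6, 4, 6, 5, 0, 0, 1, 9, 5, 1, 2, 10, 2⟩,
  ⟨10, 6, 0, 2, 0, 6, 2, 2, 6, 4, 10, 6, 6, 2, 2, 10⟩,
  ⟨5, 5, 4, 9, 1, 0, 9, 6, 10, 6, 1, 0, 2, 0, 5, 10⟩,
  ⟨0, 4, 2, 10, 4, 1, 4, 6, 0, 0, 6, 1, 6, 0, 2, 0⟩,
  ⟨8, 6, 2, 2, 8, 0, 5, 2, 1, 0, 5, 2, 2, 6, 5, 1⟩,
  ⟨5, 0, 5, 2, 1, 4, 6, 10, 2, 9, 10, 4, 9, 1, 10, 0⟩,
  ⟨10, 9, 0, 2, 1, 8, 4, 4, 5, 6, 0, 5, 4, 9, 4, 5⟩,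
  ⟨4, 4, 10, 8, 10, 9, 9, 0, 1, 5, 1, 4, 5, 1, 8, 9⟩]

/-- indices -/
def i91a : List ℕ :=
  [6, 2, 2, 0, 0, 2, 10, 1, 1, 7, 0, 0, 1, 0, 10, 0, 4, 2, 2, 7, 1, 0, 6, 0, 5, 1, 2, 2, 0, 6, 5, 3, 0, 2, 3, 5,
   0, 4, 3, 0, 1, 10, 1, 2, 2, 0, 4, 0, 5, 6, 0, 8, 0, 2, 4, 3, 1, 3, 1, 3, 0, 3, 5, 5, 1, 6, 1, 0, 9, 2, 1, 0,
   0, 3, 0, 3, 1, 0, 0, 2, 3, 2, 0, 2, 2, 2, 3, 4, 0, 1, 2, 5, 2, 4, 2, 7, 3, 2, 2, 0, 0, 1, 9, 7, 3, 1, 0, 0,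
   11, 1, 2, 0, 6, 4, 0, 4, 2, 1, 0, 0, 0, 0, 5, 3, 1, 1, 1, 0, 1, 0, 0, 5, 0, 4, 3, 4, 2, 2, 5, 12, 3, 5, 4, 3,
   0, 1, 0, 2, 0, 0, 0, 2, 2, 1, 6, 8, 4, 0, 1, 0, 0, 2, 0, 0, 3, 2, 1, 2, 2, 2, 1, 0, 2, 4, 0, 0, 1, 1, 12, 2,
   2, 1, 3, 0, 2, 0, 3, 1, 2, 1, 0, 1, 4, 0, 9, 6, 6, 2, 0, 0, 6, 2, 0, 1, 4, 1, 1, 1, 4, 5, 11, 9, 0, 3, 1, 0]

/-- indices -/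
def i91b : List ℕ :=
  [2, 3, 3, 0, 4, 3, 0, 1, 1, 3, 1, 0, 1, 4, 2, 0, 3, 5, 1, 1, 1, 6, 1, 3, 2, 3, 1, 1, 1, 1, 0, 1, 4, 2, 0, 1, 7,
   0, 0, 0, 4, 2, 0, 1, 1, 0, 0, 8, 3, 1, 1, 0, 0, 6, 2, 1, 5, 0, 7, 0, 2, 2, 2, 0, 1, 3, 2, 1, 1, 2, 0, 2, 1, 0,
   3, 3, 1, 1, 2, 0, 12, 1, 6, 1, 2, 7, 0, 0, 1, 5, 0, 6, 0, 0, 2, 3, 0, 0, 4, 0, 4, 3, 1, 0, 1, 1, 2, 1, 0, 0,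
   3, 5, 0, 6, 1, 0, 0, 0, 7, 0, 1, 0, 4, 0, 4, 3, 1, 0, 0, 0, 1, 3, 1, 1, 0, 0, 1, 4, 0, 8, 2, 3, 4, 1, 2, 0, 0,
   7, 2, 4, 1, 4, 3, 5, 5, 3, 2, 3, 3, 3, 0, 0, 3, 1, 1, 0, 2, 0, 1, 5, 6, 1, 5, 6, 0, 8, 1, 0, 6, 4, 0, 6, 0, 2,
   0, 0, 5, 5, 0, 4, 3, 7, 0, 0, 3, 3, 11, 3, 0, 1, 3, 0, 0, 1, 0, 5, 0, 5, 2, 2, 3, 0, 2, 9, 0, 4]

/-- indices -/
def i91c : List ℕ :=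
  [0, 3, 8, 1, 6, 5, 0, 3, 2, 10, 0, 2, 7, 6, 0, 0, 0, 0, 3, 1, 1, 0, 2, 0, 5, 1, 1, 1, 5, 3, 0, 4, 0, 1, 2, 3,
   0, 1, 1, 2, 5, 2, 0, 4, 9, 4, 1, 0, 0, 3, 1, 10, 1, 2, 6, 0, 1, 1, 2, 0, 0, 0, 0, 6, 1, 0, 0, 3, 1, 4, 1, 2,
   0, 1, 1, 1, 3, 4, 0, 0, 1, 3, 1, 6, 10, 4, 1, 4, 3, 5, 0, 3, 0, 2, 2, 0, 0, 0, 5, 4, 1, 6, 8, 2, 3, 0, 5, 0,
   3, 3, 7, 1, 2, 4, 0, 0, 1, 0, 0, 1, 0, 3, 0, 4, 4, 0, 2, 0, 1, 1, 0, 1, 4, 6, 1, 1, 2, 0, 1, 1, 0, 5, 1, 7, 9,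
   12, 2, 3, 3, 10, 1, 1, 2, 6, 4, 3, 5, 2, 11, 2, 1, 1, 0, 0, 4, 0, 4, 0, 2, 4, 2, 1, 7, 4, 1, 1, 1, 6, 1, 4, 3,
   2, 2, 0, 8, 1, 0, 2, 7, 2, 2, 0, 4, 1, 1, 2, 3, 0, 1, 5, 1, 0, 4, 0, 1, 0, 0, 2, 1, 3, 1, 1, 1, 5, 4, 1]

/-- indices -/
def i92a : List ℕ :=
  [0, 0, 1, 2, 6, 0, 0, 5, 6, 0, 2, 7, 2, 1, 0, 1, 5, 7, 2, 1, 2, 3, 0, 2, 0, 1, 1, 7, 0, 3, 0, 1, 1, 2, 1, 5, 0,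
   6, 4, 4, 6, 0, 1, 3, 1, 3, 0, 2, 1, 2, 1, 4, 0, 5, 2, 6, 0, 10, 2, 0, 1, 5, 3, 0, 4, 0, 3, 0, 4, 1, 4, 0, 0,
   0, 2, 4, 0, 0, 7, 1, 0, 0, 0, 10, 2, 11, 5, 2, 1, 1, 6, 0, 2, 0, 8, 0, 0, 0, 1, 6, 0, 2, 8, 3, 2, 11, 0, 0, 2,
   8, 2, 1, 1, 2, 3, 2, 1, 2, 2, 2, 5, 4, 2, 3, 0, 0, 13, 0, 1, 2, 2, 2, 1, 0, 2, 0, 8, 0, 2, 1, 0, 6, 4, 2, 2,
   4, 7, 5, 0, 0, 3, 3, 1, 1, 0, 4, 2, 0, 7, 3, 2, 1, 1, 2, 2, 2, 2, 1, 5, 2, 6, 5, 0, 1, 1, 0, 2, 0, 2, 0, 0, 1,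
   0, 3, 0, 2, 7, 0, 1, 4, 1, 2, 2, 3, 2, 1, 2, 1, 4, 8, 1, 4, 2, 3, 13, 1, 3, 1, 1, 2, 1, 1, 3, 2, 1, 3]

/-- indices -/
def i92b : List ℕ :=
  [2, 1, 2, 3, 1, 5, 1, 3, 1, 6, 1, 1, 0, 1, 0, 0, 6, 0, 4, 0, 5, 1, 4, 0, 3, 2, 2, 0, 0, 3, 4, 4, 0, 12, 2, 0,
   2, 0, 4, 3, 2, 9, 0, 6, 4, 3, 1, 5, 1, 4, 7, 0, 0, 4, 8, 2, 6, 2, 3, 0, 3, 0, 1, 0, 5, 3, 5, 4, 1, 0, 3, 1, 3,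
   0, 1, 1, 1, 0, 0, 1, 0, 4, 7, 2, 0, 0, 2, 4, 8, 1, 0, 2, 5, 1, 1, 1, 0, 4, 1, 0, 10, 7, 0, 5, 0, 0, 0, 2, 8,
   4, 7, 1, 5, 1, 2, 0, 0, 0, 2, 0, 0, 0, 1, 0, 1, 3, 2, 0, 2, 1, 0, 0, 0, 1, 2, 5, 2, 1, 0, 1, 3, 0, 12, 8, 0,
   0, 3, 0, 3, 5, 0, 2, 0, 9, 6, 4, 3, 5, 2, 1, 0, 0, 6, 0, 2, 0, 2, 2, 6, 3, 1, 5, 4, 2, 0, 1, 1, 2, 8, 0, 1, 0,
   0, 6, 0, 1, 0, 0, 3, 3, 0, 1, 2, 0, 5, 1, 4, 9, 1, 2, 6, 5, 8, 1, 0, 0, 3, 3, 5, 0, 3, 1, 1, 3, 8, 0]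

/-- indices -/
def i92c : List ℕ :=
  [0, 1, 8, 4, 2, 0, 0, 0, 0, 7, 6, 0, 3, 2, 2, 0, 1, 7, 0, 0, 6, 10, 0, 5, 1, 7, 0, 0, 1, 1, 0, 0, 0, 3, 0, 2,
   1, 8, 3, 1, 0, 1, 1, 0, 2, 4, 0, 1, 2, 3, 2, 5, 0, 3, 1, 2, 0, 0, 0, 6, 1, 0, 4, 5, 5, 0, 4, 0, 1, 8, 1, 3, 7,
   0, 6, 1, 0, 2, 3, 2, 2, 1, 0, 3, 7, 4, 1, 3, 0, 2, 2, 0, 6, 8, 4, 2, 7, 0, 0, 4, 4, 1, 4, 7, 5, 1, 4, 6, 8, 1,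
   4, 9, 0, 0, 2, 3, 1, 0, 2, 0, 0, 2, 4, 3, 1, 0, 10, 4, 13, 1, 4, 6, 9, 7, 1, 4, 1, 4, 0, 2, 0, 2, 1, 2, 4, 8,
   5, 0, 1, 3, 0, 0, 1, 1, 0, 0, 1, 1, 3, 4, 9, 4, 1, 1, 3, 1, 2, 3, 0, 0, 5, 11, 0, 1, 1, 1, 8, 5, 0, 0, 2, 5,
   2, 2, 3, 2, 3, 0, 0, 2, 0, 0, 4, 4, 2, 5, 0, 2, 7, 1, 5, 0, 1, 0, 1, 5, 3, 9, 2, 3, 1, 5, 1, 1, 5, 1]

/-- indices -/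
def i93a : List ℕ :=
  [2, 3, 3, 0, 1, 2, 3, 10, 0, 0, 0, 7, 1, 11, 0, 7, 1, 5, 1, 2, 0, 0, 3, 2, 1, 4, 4, 7, 1, 4, 4, 4, 3, 1, 3, 3,
   0, 1, 1, 0, 0, 1, 5, 0, 1, 1, 1, 1, 0, 2, 0, 6, 0, 4, 0, 5, 4, 1, 0, 5, 0, 0, 2, 1, 5, 1, 2, 0, 0, 3, 0, 0, 5,
   1, 6, 2, 3, 3, 3, 3, 1, 3, 0, 1, 0, 3, 3, 3, 2, 1, 1, 1, 4, 0, 3, 5, 0, 2, 3, 4, 5, 11, 0, 0, 2, 2, 4, 7, 3,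
   3, 1, 0, 0, 10, 6, 3, 1, 1, 4, 9, 0, 5, 2, 0, 1, 1, 3, 0, 1, 5, 0, 2, 0, 1, 0, 1, 0, 3, 2, 0, 4, 0, 7, 0, 0,
   1, 3, 2, 3, 0, 9, 2, 8, 1, 1, 0, 0, 0, 3, 1, 3, 2, 7, 1, 1, 1, 6, 0, 0, 0, 1, 0, 1, 2, 0, 0, 1, 2, 0, 4, 2,
   11, 1, 4, 1, 1, 1, 2, 1, 1, 0, 6, 3, 2, 3, 0, 9, 2, 0, 0, 2, 1, 3, 5, 0, 0, 5, 5, 0, 4, 5, 2, 0, 1, 0, 0]

/-- indices -/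
def i93b : List ℕ :=
  [1, 10, 1, 1, 3, 1, 0, 2, 0, 2, 3, 0, 0, 2, 3, 6, 7, 13, 1, 8, 0, 3, 0, 1, 2, 2, 2, 3, 1, 2, 4, 0, 1, 0, 1, 4,
   3, 2, 4, 2, 5, 4, 0, 0, 4, 3, 1, 0, 5, 0, 1, 0, 0, 0, 1, 0, 1, 1, 2, 0, 9, 2, 3, 1, 3, 0, 0, 0, 0, 0, 3, 2, 5,
   1, 5, 6, 4, 0, 2, 0, 9, 2, 1, 0, 3, 0, 0, 2, 0, 0, 0, 2, 0, 0, 2, 3, 0, 2, 0, 7, 1, 1, 1, 1, 4, 3, 1, 5, 7, 2,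
   0, 0, 0, 1, 7, 7, 9, 4, 0, 1, 0, 3, 1, 10, 5, 2, 6, 2, 3, 1, 0, 2, 0, 7, 0, 1, 2, 0, 0, 1, 2, 1, 2, 1, 4, 1,
   0, 3, 2, 6, 1, 0, 4, 4, 0, 9, 0, 0, 3, 3, 0, 6, 0, 0, 0, 0, 1, 4, 3, 0, 5, 2, 0, 9, 3, 5, 1, 2, 1, 0, 0, 0, 2,
   1, 0, 2, 4, 0, 3, 7, 5, 1, 0, 5, 1, 1, 2, 0, 3, 0, 3, 1, 1, 0, 1, 4, 1, 1, 0, 1, 2, 1, 0, 0, 0, 0]

/-- indices -/
def i93c : List ℕ :=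
  [1, 0, 4, 2, 5, 3, 0, 11, 1, 0, 0, 1, 0, 5, 2, 0, 2, 1, 1, 7, 6, 8, 0, 1, 0, 6, 1, 0, 4, 4, 0, 2, 2, 0, 0, 9,
   2, 2, 0, 2, 1, 4, 0, 3, 4, 0, 0, 0, 1, 5, 0, 0, 5, 4, 0, 3, 4, 3, 0, 1, 0, 0, 0, 0, 1, 3, 2, 0, 1, 3, 3, 2, 4,
   0, 1, 0, 13, 8, 9, 4, 1, 0, 2, 0, 2, 3, 0, 0, 3, 0, 2, 4, 0, 1, 3, 3, 0, 5, 2, 3, 3, 1, 0, 0, 1, 5, 3, 0, 2,
   2, 5, 1, 1, 1, 3, 2, 1, 0, 0, 2, 0, 0, 2, 0, 1, 1, 2, 1, 0, 0, 2, 3, 3, 1, 5, 2, 0, 3, 4, 3, 1, 0, 2, 0, 0, 6,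
   0, 1, 1, 6, 1, 1, 3, 2, 0, 1, 3, 6, 0, 1, 6, 1, 1, 0, 2, 0, 0, 0, 4, 1, 0, 0, 0, 2, 1, 4, 1, 1, 1, 3, 6, 0, 9,
   0, 4, 2, 2, 5, 5, 2, 0, 3, 4, 2, 2, 4, 8, 0, 0, 0, 0, 0, 3, 1, 3, 4, 0, 0, 1, 2, 1, 0, 8, 6, 1, 8]

/-- the elements -/
def els9 : List ℕ := [0, 1, 2, 4, 5, 6, 8, 9, 10]

/-- the nonzero elements and their inverses -/
def prs9 : List (ℕ × ℕ) := [(1, 1), (2, 2), (4, 8), (5, 6), (6, 5), (8, 4), (9, 10), (10, 9)]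

theorem chkG9 : chkG 3 0 2 3485 G9 = true := by decide +kernel
theorem chkW9 : chkW 3 0 2 (prj G9) W9 = true := by decide +kernel
theorem chk94 : chk4 3 0 2 (prj G9) W9 els9 = true := by decide +kernel

theorem chk91a : chk1 3 0 2 (prj G9) W9 [0, 1, 2] els9 prs9 i91a = true := by decide +kernel
theorem chk91b : chk1 3 0 2 (prj G9) W9 [4, 5, 6] els9 prs9 i91b = true := by decide +kernel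
theorem chk91c : chk1 3 0 2 (prj G9) W9 [8, 9, 10] els9 prs9 i91c = true := by decide +kernel
theorem chk92a : chk2 3 0 2 (prj G9) W9 [0, 1, 2] els9 prs9 i92a = true := by decide +kernel
theorem chk92b : chk2 3 0 2 (prj G9) W9 [4, 5, 6] els9 prs9 i92b = true := by decide +kernel
theorem chk92c : chk2 3 0 2 (prj G9) W9 [8, 9, 10] els9 prs9 i92c = true := by decide +kernel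
theorem chk93a : chk3 3 0 2 (prj G9) W9 [0, 1, 2] els9 prs9 i93a = true := by decide +kernel
theorem chk93b : chk3 3 0 2 (prj G9) W9 [4, 5, 6] els9 prs9 i93b = true := by decide +kernel
theorem chk93c : chk3 3 0 2 (prj G9) W9 [8, 9, 10] els9 prs9 i93c = true := by decide +kernel

theorem els9_cases : ∀ b ∈ els9, b ∈ [0, 1, 2] ∨ b ∈ [4, 5, 6] ∨ b ∈ [8, 9, 10] := by decide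

open ChevalleyStructure.NineField in
theorem cd9 : Cd 3 0 2 (⟨0, 1⟩ : F9) where
  hp := by decide +kernel
  h0 := by decide
  h4 := by decide
  hθ := by decide +kernel


theorem ok9 : Ok ChevalleyStructure.NineField.F9 3485 :=
  Ok.of (els := els9) (prs := prs9) cd9 chkG9 chkW9 (by decide +kernel) (by decide +kernel) (fun h => absurd h (by decide +kernel))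
    (fun b hb => by
      rcases els9_cases b hb with h | h | h
      · exact ⟨_, _, h, chk91a⟩
      · exact ⟨_, _, h, chk91b⟩
      · exact ⟨_, _, h, chk91c⟩)
    (fun b hb => by
      rcases els9_cases b hb with h | h | h
      · exact ⟨_, _, h, chk92a⟩
      · exact ⟨_, _, h, chk92b⟩
      · exact ⟨_, _, h, chk92c⟩)
    (fun b hb => by
      rcases els9_cases b hb with h | h | h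
      · exact ⟨_, _, h, chk93a⟩
      · exact ⟨_, _, h, chk93b⟩
      · exact ⟨_, _, h, chk93c⟩) chk94

/-- **`PSp_4(9)`** -/
theorem six_psp4_nine {F : Type*} [Field F] [Finite F] (hF : Nat.card F = 9) : H78.Pw.All 6 (PSp 2 F) := by
  have := Fintype.ofFinite F
  exact H78.Pw.All.congr (LieClassical.FieldTransfer.pspCongr 2
    (FiniteField.ringEquivOfCardEq (K := ChevalleyStructure.NineField.F9) (K' := F) (by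
      rw [ChevalleyStructure.NineField.F9.card_F9, ← Nat.card_eq_fintype_card, hF])))
    fun x => pr_prod (by norm_num) ok9 x

end Cfsg.Agent.H474.Pw
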