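import Cfsg.Agent.H474.Pw.Check
import Cfsg.Agent.Lib.FieldFour

/-!
# `All 6` for `PSp_4(3)` and `PSp_4(4)` (S2465)
-/

set_option autoImplicit false

namespace Cfsg.Agent.H474.Pw

/-- characteristic polynomials -/
def G3 : List (ℕ × ℕ × ℕ × List ℕ) :=
  [(2, 2, 4, [2, 1])]

/-- the matrices `W` -/
def W3 : List Mt :=
  [⟨1, 1, 2, 0, 2, 1, 2, 1, 2, 1, 1, 2, 1, 0, 0, 2⟩,
  ⟨2, 1, 2, 0, 2, 2, 0, 1, 2, 2, 0, 2, 2, 0, 2, 1⟩,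
  ⟨1, 1, 2, 2, 1, 1, 1, 0, 0, 1, 1, 2, 2, 0, 1, 2⟩,
  ⟨2, 2, 0, 1, 1, 2, 1, 0, 2, 2, 0, 2, 2, 0, 2, 1⟩,
  ⟨0, 1, 1, 2, 1, 2, 1, 1, 2, 1, 1, 1, 2, 2, 0, 2⟩,
  ⟨0, 0, 0, 1, 1, 1, 2, 1, 2, 0, 0, 1, 1, 2, 0, 1⟩,
  ⟨2, 2, 2, 2, 1, 0, 1, 1, 0, 2, 0, 1, 0, 2, 2, 0⟩,
  ⟨0, 2, 1, 0, 2, 0, 2, 2, 1, 1, 0, 2, 1, 0, 2, 2⟩]

/-- indices -/
def i31 : List ℕ :=
  [1, 2, 2, 2, 2, 0, 0, 0, 1, 0, 0, 1, 3, 0, 3, 1, 1, 0]

/-- indices -/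
def i32 : List ℕ :=
  [5, 1, 0, 1, 0, 7, 0, 1, 2, 0, 1, 2, 1, 2, 1, 3, 3, 2]

/-- indices -/
def i33 : List ℕ :=
  [4, 3, 5, 2, 2, 0, 1, 0, 4, 1, 1, 0, 4, 0, 0, 0, 0, 1]

/-- the elements -/
def els3 : List ℕ := [0, 1, 2]

/-- the nonzero elements and their inverses -/
def prs3 : List (ℕ × ℕ) := [(1, 1), (2, 2)]

theorem cd3 : Cd 3 0 0 (0 : ZMod 3) where
  hp := by decide
  h0 := by decide
  h4 := by decide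
  hθ := by decide

theorem chkG3 : chkG 3 0 0 3485 G3 = true := by decide +kernel
theorem chkW3 : chkW 3 0 0 (prj G3) W3 = true := by decide +kernel
theorem chk31 : chk1 3 0 0 (prj G3) W3 els3 els3 prs3 i31 = true := by decide +kernel
theorem chk32 : chk2 3 0 0 (prj G3) W3 els3 els3 prs3 i32 = true := by decide +kernel
theorem chk33 : chk3 3 0 0 (prj G3) W3 els3 els3 prs3 i33 = true := by decide +kernel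
theorem chk34 : chk4 3 0 0 (prj G3) W3 els3 = true := by decide +kernel

theorem ok3 : Ok (ZMod 3) 3485 :=
  have : Fact (Nat.Prime 3) := ⟨by norm_num⟩
  Ok.of cd3 chkG3 chkW3 (by decide +kernel) (by decide +kernel) (fun h => absurd h (by decide)) 
    (fun _ h => ⟨_, _, h, chk31⟩) (fun _ h => ⟨_, _, h, chk32⟩) (fun _ h => ⟨_, _, h, chk33⟩) chk34

/-- characteristic polynomials -/
def G4 : List (ℕ × ℕ × ℕ × List ℕ) :=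
  [(1, 1, 4, [1, 1]),
  (1, 5, 16, [1, 1, 4, 0, 1, 4, 5, 5, 4, 1, 0, 4, 1, 1]),
  (5, 1, 16, [1, 5, 5, 4, 1, 0, 5, 5, 0, 1, 4, 5, 5, 1]),
  (4, 1, 16, [1, 4, 4, 5, 1, 0, 4, 4, 0, 1, 5, 4, 4, 1]),
  (1, 4, 16, [1, 1, 5, 0, 1, 5, 4, 4, 5, 1, 0, 5, 1, 1])]

/-- the matrices `W` -/
def W4 : List Mt :=
  [⟨4, 5, 4, 1, 0, 1, 5, 0, 1, 4, 5, 4, 5, 4, 5, 1⟩,
  ⟨4, 0, 0, 5, 4, 4, 5, 1, 4, 0, 0, 1, 0, 1, 5, 4⟩,
  ⟨4, 5, 5, 0, 0, 1, 4, 1, 0, 1, 1, 5, 5, 5, 1, 1⟩,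
  ⟨1, 4, 5, 5, 4, 5, 5, 1, 5, 5, 5, 0, 0, 4, 5, 0⟩,
  ⟨4, 0, 5, 5, 0, 1, 1, 0, 1, 4, 0, 1, 4, 0, 4, 4⟩,
  ⟨5, 1, 4, 0, 4, 4, 1, 1, 4, 5, 4, 0, 0, 1, 0, 4⟩,
  ⟨4, 1, 1, 4, 5, 5, 1, 1, 1, 5, 4, 5, 5, 1, 0, 1⟩]

/-- indices -/
def i41 : List ℕ :=
  [1, 3, 2, 2, 1, 0, 0, 5, 0, 0, 1, 1, 1, 1, 0, 1, 1, 3, 0, 0, 4, 3, 0, 0, 0, 2, 1, 0, 4, 1, 0, 2, 0, 3, 1, 0, 1,
   1, 0, 4, 0, 0, 1, 0, 4, 0, 3, 3]

/-- indices -/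
def i42 : List ℕ :=
  [6, 1, 1, 6, 0, 5, 1, 0, 5, 1, 0, 0, 0, 2, 2, 0, 0, 1, 3, 3, 4, 0, 0, 2, 3, 2, 3, 1, 0, 0, 1, 0, 0, 0, 2, 0, 2,
   4, 3, 0, 3, 3, 0, 6, 1, 4, 0, 2]

/-- indices -/
def i43 : List ℕ :=
  [2, 0, 1, 0, 2, 4, 1, 5, 2, 2, 0, 1, 1, 2, 1, 2, 0, 0, 0, 2, 0, 0, 1, 0, 1, 0, 0, 3, 4, 0, 0, 3, 1, 1, 0, 2, 1,
   6, 5, 0, 0, 1, 0, 1, 1, 2, 0, 2]

/-- the elements -/
def els4 : List ℕ := [0, 1, 4, 5]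

/-- the nonzero elements and their inverses -/
def prs4 : List (ℕ × ℕ) := [(1, 1), (4, 5), (5, 4)]

open Lib.FieldFour in
theorem cd4 : Cd 2 1 1 (F4.w : F4) where
  hp := by decide
  h0 := by decide
  h4 := by decide
  hθ := by decide

theorem chkG4 : chkG 2 1 1 3485 G4 = true := by decide +kernel
theorem chkW4 : chkW 2 1 1 (prj G4) W4 = true := by decide +kernel
theorem chk41 : chk1 2 1 1 (prj G4) W4 els4 els4 prs4 i41 = true := by decide +kernel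
theorem chk42 : chk2 2 1 1 (prj G4) W4 els4 els4 prs4 i42 = true := by decide +kernel
theorem chk43 : chk3 2 1 1 (prj G4) W4 els4 els4 prs4 i43 = true := by decide +kernel
theorem chk44 : chk4 2 1 1 (prj G4) W4 els4 = true := by decide +kernel

theorem ok4 : Ok Lib.FieldFour.F4 3485 :=
  Ok.of cd4 chkG4 chkW4 (by decide +kernel) (by decide +kernel) (fun _ => by decide) 
    (fun _ h => ⟨_, _, h, chk41⟩) (fun _ h => ⟨_, _, h, chk42⟩) (fun _ h => ⟨_, _, h, chk43⟩) chk44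

/-- **`PSp_4(3)`** -/
theorem six_psp4_three {F : Type*} [Field F] [Finite F] (hF : Nat.card F = 3) : H78.Pw.All 6 (PSp 2 F) := by
  have := Fintype.ofFinite F
  have : Fact (Nat.Prime 3) := ⟨by norm_num⟩
  exact H78.Pw.All.congr (LieClassical.FieldTransfer.pspCongr 2
    (FiniteField.ringEquivOfCardEq (K := ZMod 3) (K' := F) (by
      rw [ZMod.card, ← Nat.card_eq_fintype_card, hF])))
    fun x => pr_prod (by norm_num) ok3 x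

/-- **`PSp_4(4)`** -/
theorem six_psp4_four {F : Type*} [Field F] [Finite F] (hF : Nat.card F = 4) : H78.Pw.All 6 (PSp 2 F) := by
  have := Fintype.ofFinite F
  exact H78.Pw.All.congr (LieClassical.FieldTransfer.pspCongr 2
    (FiniteField.ringEquivOfCardEq (K := Lib.FieldFour.F4) (K' := F) (by
      rw [Lib.FieldFour.F4.card, ← Nat.card_eq_fintype_card, hF])))
    fun x => pr_prod (by norm_num) ok4 x

end Cfsg.Agent.H474.Pw
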